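import Groth.Agent.FormalProLib.Pro

/-!
# The comparison with the completion and the vanishing of `lim¹`
-/

universe u

open CategoryTheory CategoryTheory.Limits AlgebraicGeometry Opposite TopologicalSpace
open Formal2 (towerDiff limOne)

noncomputable section

namespace FormalProLib

open FormalLib (hMapA hMapA_comp hMapA_apply modPowπ_completion quotMap toLim)

/-- A tower whose images eventually come from one group with compatible maps has vanishing `lim¹`. -/
theorem subsingleton_limOne {G : ℕ → Type u} [∀ n, AddCommGroup (G n)] {t : ∀ n, G (n + 1) →+ G n}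
    {L : Type u} [AddCommGroup L] (π : ∀ n, L →+ G n) (hπ : ∀ n x, t n (π (n + 1) x) = π n x)
    (T : ∀ n i, n ≤ i → G i →+ G n) (hT₀ : ∀ n x, T n n le_rfl x = x)
    (hT : ∀ n i (h : n + 1 ≤ i) x, t n (T (n + 1) i h x) = T n i (Nat.le_of_succ_le h) x)
    (hml : ∀ n, ∃ m, ∀ i, m ≤ i → ∀ (h : n ≤ i) (x : G i), ∃ y, π n y = T n i h x) :
    Subsingleton (limOne G t) := by
  refine subsingleton_iff.2 fun a b => ?_
  suffices h : ∀ c : limOne G t, c = 0 by rw [h a, h b]
  intro c
  induction c using QuotientAddGroup.induction_on with | H c => ?_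
  choose m hm using hml
  let s : ℕ → ℕ := fun n => max (n + 1) ((Finset.range (n + 1)).sup m)
  have hs1 : ∀ n, n + 1 ≤ s n := fun n => le_max_left _ _
  have hs2 : ∀ n, m n ≤ s n := fun n => le_trans (Finset.le_sup (f := m) (Finset.self_mem_range_succ n)) (le_max_right _ _)
  have hs3 : ∀ n, s n ≤ s (n + 1) := fun n =>
    max_le_max (Nat.le_succ _) (Finset.sup_mono (Finset.range_mono (Nat.le_succ _)))
  let T' : ∀ n i, G i →+ G n := fun n i => if h : n ≤ i then T n i h else 0
  have hT' : ∀ n i, n + 1 ≤ i → ∀ x, t n (T' (n + 1) i x) = T' n i x := fun n i h x => by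
    show t n ((if h : n + 1 ≤ i then T (n + 1) i h else 0) x) = (if h : n ≤ i then T n i h else 0) x
    rw [dif_pos h, dif_pos (Nat.le_of_succ_le h), hT]
  let v : ∀ n, G n := fun n => ∑ i ∈ Finset.Ico n (s n), T' n i (c i)
  have hdiff : ∀ n, ∃ y, π n y = ∑ i ∈ Finset.Ico (s n) (s (n + 1)), T' n i (c i) := fun n => by
    have h1 : ∀ i ∈ Finset.Ico (s n) (s (n + 1)), T' n i (c i) ∈ (π n).range := fun i hi => by
      obtain ⟨h, -⟩ := Finset.mem_Ico.1 hi
      have h2 : n ≤ i := le_trans (Nat.le_succ n) (le_trans (hs1 n) h)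
      obtain ⟨y, hy⟩ := hm n i (le_trans (hs2 n) h) h2 (c i)
      refine ⟨y, hy.trans ?_⟩
      show _ = (if h : n ≤ i then T n i h else 0) (c i)
      rw [dif_pos h2]
    exact AddMonoidHom.mem_range.1 (AddSubgroup.sum_mem _ h1)
  choose d hd using hdiff
  let w : ∀ n, G n := fun n => π n (-∑ i ∈ Finset.range n, d i)
  refine (QuotientAddGroup.eq_zero_iff c).2 ⟨v + w, funext fun n => ?_⟩
  show (v n + w n) - t n (v (n + 1) + w (n + 1)) = c n
  have h1 : t n (v (n + 1)) = v n - c n + π n (d n) := by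
    have e1 : t n (v (n + 1)) = ∑ i ∈ Finset.Ico (n + 1) (s (n + 1)), T' n i (c i) := by
      rw [map_sum]
      exact Finset.sum_congr rfl fun i hi => hT' n i (Finset.mem_Ico.1 hi).1 _
    have e2 : v n = c n + ∑ i ∈ Finset.Ico (n + 1) (s n), T' n i (c i) := by
      show ∑ i ∈ Finset.Ico n (s n), T' n i (c i) = _
      rw [Finset.sum_eq_sum_Ico_succ_bot (lt_of_lt_of_le (Nat.lt_succ_self n) (hs1 n))]
      refine congrArg (fun z => z + _) ?_
      show (if h : n ≤ n then T n n h else 0) (c n) = c n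
      rw [dif_pos le_rfl, hT₀]
    rw [e1, hd, e2, ← Finset.sum_Ico_consecutive _ (hs1 n) (hs3 n)]
    abel
  have h2 : t n (w (n + 1)) = w n - π n (d n) := by
    show t n (π (n + 1) (-∑ i ∈ Finset.range (n + 1), d i)) = π n (-∑ i ∈ Finset.range n, d i) - π n (d n)
    rw [hπ, Finset.sum_range_succ, neg_add, ← sub_eq_add_neg, map_sub]
  rw [map_add, h1, h2]
  abel

variable {A : Type u} [CommRing A] [IsNoetherianRing A] {X : Scheme.{u}} [X.Over (Spec (CommRingCat.of A))]
  [AlgebraicGeometry.IsNoetherian X] (I : Ideal A) {M : X.Modules} (hM : Coh.IsCoh M)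
  (hfin : ∀ p : ℕ, Module.Finite A (Coh.HH X M p))

omit [IsNoetherianRing A] [AlgebraicGeometry.IsNoetherian X] in
lemma lim_eq_map (p : ℕ) (y : Formal.HHlim I M p) {n k : ℕ} (h : n ≤ k) :
    hMapA (A := A) (Formal2.modPowLE I (Nat.succ_le_succ h) M) p (y.1 k) = y.1 n := by
  induction k, h using Nat.le_induction with
  | base =>
    have e : Formal2.modPowLE I (le_refl (n + 1)) M = 𝟙 (Formal.modPow I (n + 1) M) := by
      apply (cancel_epi (Formal.modPowπ I (n + 1) M)).1
      rw [Formal2.modPowπ_modPowLE, Category.comp_id]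
    exact (congrArg (fun t => hMapA (A := A) t p (y.1 n)) e).trans (hMap_id _ p _)
  | succ k h ih =>
    have e : Formal2.modPowLE I (Nat.succ_le_succ (h.trans (Nat.le_succ k))) M =
        Formal.modPowTrans I (k + 1) M ≫ Formal2.modPowLE I (Nat.succ_le_succ h) M := by
      apply (cancel_epi (Formal.modPowπ I (k + 1 + 1) M)).1
      rw [← Category.assoc, Formal.modPowπ_trans, Formal2.modPowπ_modPowLE, Formal2.modPowπ_modPowLE]
    refine (congrArg (fun t => hMapA (A := A) t p (y.1 (k + 1))) e).trans ?_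
    refine (hMapA_comp _ _ p _).symm.trans ?_
    exact (congrArg _ (y.2 k)).trans ih

include hM hfin in
theorem toLim_bijective (p : ℕ) : Function.Bijective (toLim (A := A) I (M := M) p) := by
  refine ⟨(injective_iff_map_eq_zero _).2 fun h hh => AdicCompletion.ext fun n => ?_, fun y => ?_⟩
  · obtain ⟨m, hnm, hm⟩ := exists_ker_bound hM hfin I p n
    obtain ⟨x, hx⟩ := Submodule.Quotient.mk_surjective _ (h.val (m + 1))
    have h' := h.property (show n ≤ m + 1 by omega)
    rw [← hx] at h'
    rw [← h']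
    show _ = (0 : _ ⧸ _)
    refine (Submodule.Quotient.mk_eq_zero _).2 (hm (m + 1) (Nat.le_succ m) x ?_)
    have h0 : quotMap I p (m + 1) (h.val (m + 1)) = 0 := congrFun (congrArg Subtype.val hh) m
    rwa [← hx] at h0
  · have hlift : ∀ n, ∃ x, hMapA (A := A) (Formal.modPowπ I (n + 1) M) p x = y.1 n := fun n => by
      obtain ⟨m, hnm, hm⟩ := exists_ml_bound hM hfin I p (n + 1)
      obtain ⟨j, rfl⟩ := Nat.exists_eq_add_of_le hnm
      obtain ⟨x, hx⟩ := hm (n + j + 1) (Formal2.modPowLE I (Nat.succ_le_succ (Nat.le_add_right n j)) M)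
        (by omega) (Formal2.modPowπ_modPowLE I _ M) (y.1 (n + j))
      exact ⟨x, hx.trans (lim_eq_map I p y (Nat.le_add_right n j))⟩
    choose x hx using hlift
    have hstep : ∀ i j, i ≤ j → hMapA (A := A) (Formal.modPowπ I (i + 1) M) p (x j) = y.1 i := fun i j hij => by
      rw [← Formal2.modPowπ_modPowLE I (Nat.succ_le_succ hij) M]
      refine (hMapA_comp (Formal.modPowπ I (j + 1) M) _ p (x j)).symm.trans ?_
      exact (congrArg _ (hx j)).trans (lim_eq_map I p y hij)
    choose m hnm hm using exists_ker_bound hM hfin I p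
    let i : ℕ → ℕ := fun n => (Finset.range (n + 1)).sup m
    have hi1 : ∀ n, m n ≤ i n := fun n => Finset.le_sup (f := m) (Finset.self_mem_range_succ n)
    have hi2 : ∀ j k, j ≤ k → i j ≤ i k := fun j k h => Finset.sup_mono (Finset.range_mono (by omega))
    refine ⟨⟨fun n => Submodule.Quotient.mk (x (i n)), fun {j k} hjk => ?_⟩, Subtype.ext (funext fun n => ?_)⟩
    · show Submodule.Quotient.mk (x (i k)) = Submodule.Quotient.mk (x (i j))
      rw [Submodule.Quotient.eq]
      refine hm j (i j + 1) (le_trans (hi1 j) (Nat.le_succ _)) _ ?_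
      rw [map_sub, hx, hstep _ _ (hi2 j k hjk), sub_self]
    · exact hstep n (i (n + 1)) (by have := hi1 (n + 1); have := hnm (n + 1); omega)

include hM hfin in
theorem subsingleton_limOne_HH (p : ℕ) :
    Subsingleton (limOne (fun n => Formal.HHmodPow I M p n) (fun n => Formal.HHmodPowTrans I M p n)) := by
  refine subsingleton_limOne (fun n => Formal.toHHmodPow I M p n) (fun n x => ?_)
    (fun n i h => (hMapA (A := A) (Formal2.modPowLE I (Nat.succ_le_succ h) M) p).toAddMonoidHom)
    (fun n x => ?_) (fun n i h x => ?_) fun n => ?_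
  · exact (Formal.HHmap_comp (Formal.modPowπ I (n + 1 + 1) M) (Formal.modPowTrans I (n + 1) M) p x).trans
      (congrArg (fun φ => Sheaf.H.map ((SheafOfModules.toSheaf _).map φ) p x) (Formal.modPowπ_trans I (n + 1) M))
  · have e : Formal2.modPowLE I (le_refl (n + 1)) M = 𝟙 (Formal.modPow I (n + 1) M) := by
      apply (cancel_epi (Formal.modPowπ I (n + 1) M)).1
      rw [Formal2.modPowπ_modPowLE, Category.comp_id]
    exact (congrArg (fun t => hMapA (A := A) t p x) e).trans (hMap_id _ p _)
  · have e : Formal2.modPowLE I (Nat.succ_le_succ h) M ≫ Formal.modPowTrans I (n + 1) M =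
        Formal2.modPowLE I (Nat.succ_le_succ (Nat.le_of_succ_le h)) M := by
      apply (cancel_epi (Formal.modPowπ I (i + 1) M)).1
      rw [← Category.assoc, Formal2.modPowπ_modPowLE, Formal.modPowπ_trans, Formal2.modPowπ_modPowLE]
    exact (hMapA_comp _ _ p x).trans (congrArg (fun t => hMapA (A := A) t p x) e)
  · obtain ⟨m, hnm, hm⟩ := exists_ml_bound hM hfin I p (n + 1)
    refine ⟨m, fun i hi h y => ?_⟩
    exact hm (i + 1) (Formal2.modPowLE I (Nat.succ_le_succ h) M) (by omega) (Formal2.modPowπ_modPowLE I _ M) y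

end FormalProLib
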