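import Groth.Agent.AtlasCohLib.Finiteness
import Groth.Agent.S0792

/-!
# Finite cohomology for coherent modules with proper support
-/

set_option maxHeartbeats 1000000

universe u

open CategoryTheory CategoryTheory.Limits AlgebraicGeometry Opposite TopologicalSpace
open QCohLib (AbSh HU toAbF pf pre AcyclicAbove h0 h0_comp delta0 delta0_surjective delta0_eq_zero_iff deltaEquiv injSeq
  injSeq_shortExact pf_shortExact subsingleton_pf_injective)

noncomputable section

namespace FormalProLib

section Top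

variable {X Y : TopCat.{u}} {f : X ⟶ Y} {B : Set (Opens Y)}

/-- A morphism of sequences commutes with the connecting map. -/
lemma comp_extClass_natural {U : Opens X} {S S' : ShortComplex (AbSh X)} (hS : S.ShortExact) (hS' : S'.ShortExact)
    (φ : S ⟶ S') {n m : ℕ} (h : n + 1 = m) (x : HU S.X₃ n U) :
    Abelian.Ext.comp (Abelian.Ext.comp x (Abelian.Ext.mk₀ φ.τ₃) (add_zero n)) hS'.extClass h =
      Abelian.Ext.comp (Abelian.Ext.comp x hS.extClass h) (Abelian.Ext.mk₀ φ.τ₁) (add_zero m) := by
  rw [Abelian.Ext.comp_assoc_of_second_deg_zero, ← ShortComplex.ShortExact.extClass_naturality hS hS' φ,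
    Abelian.Ext.comp_assoc_of_third_deg_zero]

/-- The comparison of the cohomology of a direct image, commuting with endomorphisms. -/
theorem exists_pfEquiv_natural (hB : Opens.IsBasis B) (V : Opens Y) : ∀ (n : ℕ) (F : AbSh X),
    AcyclicAbove f B 0 F → ∃ e : HU ((pf f).obj F) n V ≃+ HU F n (pre f V), ∀ (φ : F ⟶ F) (x : HU ((pf f).obj F) n V),
      e (Abelian.Ext.comp x (Abelian.Ext.mk₀ ((pf f).map φ)) (add_zero n)) =
        Abelian.Ext.comp (e x) (Abelian.Ext.mk₀ φ) (add_zero n) := by
  intro n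
  induction n using Nat.strong_induction_on with
  | _ n ih =>
    intro F h
    let S := injSeq F
    have hS : S.ShortExact := injSeq_shortExact F
    have hT : (S.map (pf f)).ShortExact := pf_shortExact hB hS h
    have hext : ∀ φ : F ⟶ F, ∃ Φ : S ⟶ S, Φ.τ₁ = φ := fun φ => by
      let ψ : S.X₂ ⟶ S.X₂ := Injective.factorThru (φ ≫ Injective.ι F) (Injective.ι F)
      have hψ : φ ≫ Injective.ι F = Injective.ι F ≫ ψ := (Injective.comp_factorThru _ _).symm
      exact ⟨ShortComplex.homMk φ ψ (cokernel.map _ _ φ ψ hψ.symm) hψ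
        (cokernel.π_desc _ _ _).symm, rfl⟩
    match n, ih with
    | 0, _ =>
      refine ⟨(h0 (F := (pf f).obj F) (U := V)).trans (h0 (F := F) (U := pre f V)).symm, fun φ x => ?_⟩
      apply (h0 (F := F) (U := pre f V)).injective
      refine (AddEquiv.apply_symm_apply _ _).trans ?_
      refine (h0_comp (F := (pf f).obj F) x ((pf f).map φ)).trans ?_
      refine Eq.trans ?_ (h0_comp (F := F) _ φ).symm
      exact congrArg (fun t => φ.hom.app (op (pre f V)) t) (AddEquiv.apply_symm_apply _ _).symm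
    | 1, _ =>
      have : Subsingleton (HU (S.map (pf f)).X₂ 1 V) := subsingleton_pf_injective S.X₂ 0 V
      have : Subsingleton (HU S.X₂ 1 (pre f V)) := inferInstance
      let φT := delta0 hT V
      let φS := delta0 hS (pre f V)
      have hk : φT.ker = φS.ker := by
        ext q
        exact (delta0_eq_zero_iff hT V q).trans (delta0_eq_zero_iff hS (pre f V) q).symm
      have hsT := delta0_surjective hT V
      have hsS := delta0_surjective hS (pre f V)
      let e := (QuotientAddGroup.quotientKerEquivOfSurjective φT hsT).symm.trans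
        ((QuotientAddGroup.quotientAddEquivOfEq hk).trans
          (QuotientAddGroup.quotientKerEquivOfSurjective φS hsS))
      have he : ∀ q, e (φT q) = φS q := fun q => by
        have h1 : (QuotientAddGroup.quotientKerEquivOfSurjective φT hsT).symm (φT q) = QuotientAddGroup.mk q := by
          rw [AddEquiv.symm_apply_eq]
          rfl
        rw [AddEquiv.trans_apply, AddEquiv.trans_apply, h1]
        rfl
      refine ⟨e, fun φ x => ?_⟩
      obtain ⟨q, rfl⟩ := hsT x
      obtain ⟨Φ, rfl⟩ := hext φ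
      have hnat : ∀ {Z : TopCat.{u}} {U : Opens Z} {R : ShortComplex (AbSh Z)} (hR : R.ShortExact) (Ψ : R ⟶ R)
          (t : R.X₃.obj.obj (op U)), delta0 hR U (Ψ.τ₃.hom.app (op U) t) =
            Abelian.Ext.comp (delta0 hR U t) (Abelian.Ext.mk₀ Ψ.τ₁) (add_zero 1) := fun {Z U R} hR Ψ t => by
        show Abelian.Ext.comp (h0.symm (Ψ.τ₃.hom.app (op U) t)) hR.extClass (zero_add 1) = _
        have h1 : h0.symm (Ψ.τ₃.hom.app (op U) t) =
            Abelian.Ext.comp (h0.symm t) (Abelian.Ext.mk₀ Ψ.τ₃) (add_zero 0) := by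
          rw [AddEquiv.symm_apply_eq, h0_comp, AddEquiv.apply_symm_apply]
        rw [h1]
        exact comp_extClass_natural hR hR Ψ (zero_add 1) (h0.symm t)
      refine (congrArg e (hnat hT ((pf f).mapShortComplex.map Φ) q).symm).trans ((he _).trans ?_)
      exact (hnat hS Φ q).trans (congrArg (fun z => Abelian.Ext.comp z (Abelian.Ext.mk₀ Φ.τ₁) (add_zero 1)) (he q).symm)
    | m + 2, ih =>
      have : Subsingleton (HU (S.map (pf f)).X₂ (m + 1) V) := subsingleton_pf_injective S.X₂ m V
      have : Subsingleton (HU (S.map (pf f)).X₂ (m + 2) V) :=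
        subsingleton_pf_injective S.X₂ (m + 1) V
      obtain ⟨e, he⟩ := ih (m + 1) (by omega) S.X₃ (AcyclicAbove.quotient hS h)
      let dT := deltaEquiv hT m V
      let dS := deltaEquiv hS m (pre f V)
      refine ⟨dT.symm.trans (e.trans dS), fun φ x => ?_⟩
      obtain ⟨z, rfl⟩ := dT.surjective x
      obtain ⟨Φ, rfl⟩ := hext φ
      have h1 : Abelian.Ext.comp (dT z) (Abelian.Ext.mk₀ ((pf f).map Φ.τ₁)) (add_zero (m + 2)) =
          dT (Abelian.Ext.comp z (Abelian.Ext.mk₀ ((pf f).map Φ.τ₃)) (add_zero (m + 1))) :=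
        (comp_extClass_natural hT hT ((pf f).mapShortComplex.map Φ) rfl z).symm
      refine (congrArg (dT.symm.trans (e.trans dS)) h1).trans ?_
      show dS (e (dT.symm (dT _))) = Abelian.Ext.comp (dS (e (dT.symm (dT z)))) _ _
      refine (congrArg (fun t => dS (e t)) (dT.symm_apply_apply _)).trans ?_
      rw [dT.symm_apply_apply z]
      refine (congrArg dS (he Φ.τ₃ z)).trans ?_
      exact comp_extClass_natural hS hS Φ rfl (e z)

end Top

variable {A : Type u} [CommRing A] {X Z : Scheme.{u}}

/-- Transfer of finiteness along an affine morphism to any scheme over the base. -/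
theorem finiteCoh_push (g : X ⟶ Spec (CommRingCat.of A)) (i : Z ⟶ X) [IsAffineHom i] (G : Z.Modules) [Coh.IsQCoh G]
    (h : AtlasCoh.FiniteCoh (i ≫ g) G) : AtlasCoh.FiniteCoh g ((Scheme.Modules.pushforward i).obj G) := fun p => by
  let _ := Module.compHom (Coh.HH Z G p) (Coh.toGlobal (i ≫ g))
  let _ := Module.compHom (Coh.HH X ((Scheme.Modules.pushforward i).obj G) p) (Coh.toGlobal g)
  have := h p
  obtain ⟨e, he⟩ := exists_pfEquiv_natural (f := i.base) (QCohLib.isBasis_affSet (Y := X)) (⊤ : X.Opens) p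
    ((toAbF Z).obj G) (QCohLib.acyclicAbove_of_isAffineHom i G)
  let E : Coh.HH Z G p ≃+ Coh.HH X ((Scheme.Modules.pushforward i).obj G) p :=
    ((QCohLib.hEquiv ((toAbF Z).obj G) p).trans e.symm).trans
      (QCohLib.hEquiv ((toAbF X).obj ((Scheme.Modules.pushforward i).obj G)) p).symm
  refine AtlasCoh.finite_of_addEquiv E fun a x => ?_
  have hsm : Coh.smulAb ((Scheme.Modules.pushforward i).obj G) (Coh.toGlobal g a) =
      (pf i.base).map (Coh.smulAb G (Coh.toGlobal (i ≫ g) a)) := by
    apply Sheaf.hom_ext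
    ext U m
    show X.presheaf.map (homOfLE (le_top : U.unop ≤ ⊤)).op (Coh.toGlobal g a) •
      (show Γ((Scheme.Modules.pushforward i).obj G, U.unop) from m) = _
    refine (QCohLib.push_smul i G _ _).trans ?_
    rw [QCohLib.app_res]
    rfl
  show E (HSMul.hSMul (α := Coh.Γtop Z) (Coh.toGlobal (i ≫ g) a) x) = HSMul.hSMul (α := Coh.Γtop X) (Coh.toGlobal g a) (E x)
  rw [AtlasCoh.smulΓ_def, AtlasCoh.smulΓ_def]
  apply (QCohLib.hEquiv ((toAbF X).obj ((Scheme.Modules.pushforward i).obj G)) p).injective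
  refine ((QCohLib.hEquiv ((toAbF X).obj ((Scheme.Modules.pushforward i).obj G)) p).apply_symm_apply _).trans ?_
  refine Eq.trans ?_ (QCohLib.hEquiv_map (Coh.smulAb ((Scheme.Modules.pushforward i).obj G) (Coh.toGlobal g a)) p (E x)).symm
  refine Eq.trans ?_ (congrArg (fun z => Abelian.Ext.comp z
    (Abelian.Ext.mk₀ (Coh.smulAb ((Scheme.Modules.pushforward i).obj G) (Coh.toGlobal g a))) (add_zero p))
    ((QCohLib.hEquiv ((toAbF X).obj ((Scheme.Modules.pushforward i).obj G)) p).apply_symm_apply _).symm)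
  rw [hsm]
  show e.symm (QCohLib.hEquiv ((toAbF Z).obj G) p (Sheaf.H.map (Coh.smulAb G (Coh.toGlobal (i ≫ g) a)) p x)) = _
  apply e.injective
  rw [AddEquiv.apply_symm_apply]
  refine (QCohLib.hEquiv_map (Coh.smulAb G (Coh.toGlobal (i ≫ g) a)) p x).trans ?_
  refine Eq.trans ?_ (he (Coh.smulAb G (Coh.toGlobal (i ≫ g) a)) _).symm
  exact congrArg (fun z => Abelian.Ext.comp z _ (add_zero p)) (e.apply_symm_apply _).symm

/-- Coherent modules with proper support have finite cohomology. -/
theorem finiteCoh_of_properSupport [IsNoetherianRing A] (g : X ⟶ Spec (CommRingCat.of A)) [LocallyOfFiniteType g]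
    (F : X.Modules) (hF : Coh.IsCoh F) (hs : ClSub.IsProperOver g (CohB1.support F)) : AtlasCoh.FiniteCoh g F := by
  obtain ⟨Z, i, _, _, G, hG, hGft, ⟨e⟩⟩ := (Groth.Agent.S0792.result g F hF.1 hF.2).mp hs
  have : Coh.IsQCoh G := hG
  exact (finiteCoh_push g i G (AtlasCoh.finiteCoh_of_isProper (i ≫ g) G ⟨hG, hGft⟩)).of_iso e

end FormalProLib
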