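import Groth.Agent.FormalProLib.Quot
import Mathlib.RingTheory.Finiteness.Ideal

/-!
# The systems `H^p(X, M) / I ^ n` and `H^p(X, M / I ^ n M)` are pro-isomorphic when the cohomology is finite
-/

universe u

open CategoryTheory CategoryTheory.Limits AlgebraicGeometry Opposite TopologicalSpace

noncomputable section

namespace FormalProLib

open FormalLib (smulMod_add smulMod_mul hMapA hMapA_comp hMapA_apply)

variable {A : Type u} [CommRing A] {X : Scheme.{u}} [X.Over (Spec (CommRingCat.of A))]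

lemma hδ_natural' {Y : Scheme.{u}} {S S' : ShortComplex (QCohLib.AbSh Y.toTopCat)} (hS : S.ShortExact)
    (hS' : S'.ShortExact) (φ : S ⟶ S') (p : ℕ) (x : Sheaf.H S.X₃ p) :
    AtlasCoh.hδ hS' p (Sheaf.H.map φ.τ₃ p x) = Sheaf.H.map φ.τ₁ (p + 1) (AtlasCoh.hδ hS p x) := by
  show (Abelian.Ext.comp x (Abelian.Ext.mk₀ φ.τ₃) (add_zero p)).comp hS'.extClass rfl =
    (Abelian.Ext.comp x hS.extClass rfl).comp (Abelian.Ext.mk₀ φ.τ₁) (add_zero (p + 1))
  rw [Abelian.Ext.comp_assoc_of_second_deg_zero, ← ShortComplex.ShortExact.extClass_naturality hS hS' φ,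
    Abelian.Ext.comp_assoc_of_third_deg_zero]

lemma inc_hδ (M : X.Modules) (K : Ideal A) (g : A) (p : ℕ) (x : Coh.HH X (T M (K ⊔ Ideal.span {g})) p) :
    hMapA (A := A) (inc M K g) (p + 1)
      (AtlasCoh.hδ (QCohLib.toAbF_shortExact (shortExact M K g)) p x) = 0 := by
  rw [hMapA_apply]
  exact (Abelian.Ext.comp_assoc_of_third_deg_zero ..).trans
    ((congrArg (fun e => Abelian.Ext.comp x e (add_zero (p + 1)))
      (QCohLib.toAbF_shortExact (shortExact M K g)).extClass_comp).trans (Abelian.Ext.comp_zero ..))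

/-- A morphism of the sequences `0 → g (M / K M) → M / K M → M / (K + g) M → 0`. -/
lemma hδ_tr (M : X.Modules) {K K' : Ideal A} (g g' : A) (h : K ≤ K')
    (h' : K ⊔ Ideal.span {g} ≤ K' ⊔ Ideal.span {g'}) (χ : Kr M K g ⟶ Kr M K' g')
    (hχ : χ ≫ inc M K' g' = inc M K g ≫ tr M h) (p : ℕ) (x : Coh.HH X (T M (K ⊔ Ideal.span {g})) p) :
    AtlasCoh.hδ (QCohLib.toAbF_shortExact (shortExact M K' g')) p (hMapA (A := A) (tr M h') p x) =
      hMapA (A := A) χ (p + 1) (AtlasCoh.hδ (QCohLib.toAbF_shortExact (shortExact M K g)) p x) := by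
  let φ : ShortComplex.mk _ _ (inc_q M K g) ⟶ ShortComplex.mk _ _ (inc_q M K' g') :=
    ShortComplex.homMk χ (tr M h) (tr M h') hχ (by
      show tr M h ≫ q M K' g' = q M K g ≫ tr M h'
      rw [q, q, tr_comp, tr_comp])
  exact hδ_natural' (QCohLib.toAbF_shortExact (shortExact M K g))
    (QCohLib.toAbF_shortExact (shortExact M K' g')) ((QCohLib.toAbF X).mapShortComplex.map φ) p x

variable (M : X.Modules)

/-- The images of `H^p(M / J_m M)` in `H^p(M / J_n M)` come from `H^p(M)`. -/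
def PS (J : ℕ → Ideal A) (p : ℕ) : Prop :=
  ∀ n, ∃ m, n ≤ m ∧ ∀ (h : J m ≤ J n) (y : Coh.HH X (T M (J m)) p),
    ∃ x : Coh.HH X M p, hMapA (A := A) (π M (J n)) p x = hMapA (A := A) (tr M h) p y

/-- The kernels of `H^p(M) → H^p(M / J_m M)` are small. -/
def PI (J : ℕ → Ideal A) (p : ℕ) : Prop :=
  ∀ n, ∃ m, n ≤ m ∧ ∀ x : Coh.HH X M p,
    hMapA (A := A) (π M (J m)) p x = 0 → x ∈ (J n • ⊤ : Submodule A (Coh.HH X M p))

variable {M}

lemma exists_pow_smul_stable [IsNoetherianRing A] {H : Type u} [AddCommGroup H] [Module A H] [Module.Finite A H]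
    (N : Submodule A H) (f : A) : ∃ c : ℕ, ∀ e, c ≤ e → ∀ h : H, f ^ e • h ∈ N → f ^ c • h ∈ N := by
  have : IsNoetherian A H := isNoetherian_of_isNoetherianRing_of_finite A H
  let F : ℕ →o Submodule A H := ⟨fun k => N.comap (f ^ k • LinearMap.id), monotone_nat_of_le_succ fun k h hh => by
    show f ^ (k + 1) • h ∈ N
    rw [pow_succ', mul_smul]
    exact N.smul_mem f hh⟩
  obtain ⟨c, hc⟩ := monotone_stabilizes_iff_noetherian.mpr ‹_› F
  exact ⟨c, fun e he h hh => (hc e he).ge hh⟩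

variable [IsNoetherianRing A] [AlgebraicGeometry.IsNoetherian X] (hM : Coh.IsCoh M) (hfin : ∀ p : ℕ, Module.Finite A (Coh.HH X M p))
  {J : ℕ → Ideal A} (hJ : Antitone J) (f : A)

/-- Adding the powers of one more element. -/
def adjoinPow (J : ℕ → Ideal A) (f : A) (n : ℕ) : Ideal A := J n ⊔ Ideal.span {f ^ n}

omit [IsNoetherianRing A] [AlgebraicGeometry.IsNoetherian X] [X.Over (Spec (CommRingCat.of A))] in
lemma span_pow_le {a b : ℕ} (h : a ≤ b) : Ideal.span {f ^ b} ≤ Ideal.span {f ^ a} :=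
  Ideal.span_singleton_le_span_singleton.2 (pow_dvd_pow f h)

include hJ in
omit [IsNoetherianRing A] [AlgebraicGeometry.IsNoetherian X] [X.Over (Spec (CommRingCat.of A))] in
lemma adjoinPow_antitone : Antitone (adjoinPow J f) := fun _ _ h => sup_le_sup (hJ h) (span_pow_le f h)

include hM hJ in
omit [IsNoetherianRing A] in
lemma step_PI (p : ℕ) (hS : PS M J p) (hI : PI M J p) : PI M (adjoinPow J f) p := by
  intro n
  obtain ⟨b, hnb, hb⟩ := hI n
  obtain ⟨a, hba, ha⟩ := hS b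
  obtain ⟨k, hk⟩ := exists_stable M hM (J a) f
  obtain ⟨ψ, -, hψ⟩ := hk n
  refine ⟨max a (k + n), le_trans (le_trans hnb hba) (le_max_left _ _), fun x hx => ?_⟩
  have h1 : adjoinPow J f (max a (k + n)) ≤ J a ⊔ Ideal.span {f ^ (k + n)} :=
    sup_le_sup (hJ (le_max_left _ _)) (span_pow_le f (le_max_right _ _))
  have h2 : hMapA (A := A) (q M (J a) (f ^ (k + n))) p (hMapA (A := A) (π M (J a)) p x) = 0 := by
    rw [q, hMap_π_tr, ← hMap_π_tr M h1 p x, hx, map_zero]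
  obtain ⟨z, hz⟩ := AtlasCoh.hExact₂ (QCohLib.toAbF_shortExact (shortExact M (J a) (f ^ (k + n)))) p
    (hMapA (A := A) (π M (J a)) p x) h2
  change hMapA (A := A) (inc M (J a) (f ^ (k + n))) p z = hMapA (A := A) (π M (J a)) p x at hz
  rw [← hψ, ← hMapA_comp, ← smul_eq_hMap] at hz
  obtain ⟨h, hh⟩ := ha (hJ hba) (hMapA (A := A) ψ p z)
  have h3 : hMapA (A := A) (π M (J b)) p (x - f ^ n • h) = 0 := by
    rw [map_sub, map_smul, hh, ← map_smul, hz, hMap_π_tr, sub_self]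
  have h4 := hb _ h3
  have h5 : f ^ n • h ∈ (adjoinPow J f n • ⊤ : Submodule A (Coh.HH X M p)) :=
    Submodule.smul_mem_smul (Ideal.mem_sup_right (Ideal.mem_span_singleton_self _)) Submodule.mem_top
  have h6 := add_mem (Submodule.smul_mono_left (le_sup_left : J n ≤ adjoinPow J f n) h4) h5
  rwa [sub_add_cancel] at h6

include hM hJ hfin in
lemma step_PS (p : ℕ) (hS : PS M J p) (hI : PI M J (p + 1)) (hS' : PS M J (p + 1)) :
    PS M (adjoinPow J f) p := by
  intro n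
  obtain ⟨n₁, hn₁, h₁⟩ := hS n
  obtain ⟨b, hnb, hb⟩ := hI n₁
  obtain ⟨a, hba, ha⟩ := hS' b
  have := hfin (p + 1)
  obtain ⟨c, hc⟩ := exists_pow_smul_stable (J n₁ • ⊤ : Submodule A (Coh.HH X M (p + 1))) f
  obtain ⟨k, hk⟩ := exists_stable M hM (J a) f
  obtain ⟨ψ, hψ₁, hψ₂⟩ := hk (c + n)
  refine ⟨max a (k + (c + n)), le_trans (le_trans hn₁ (le_trans hnb hba)) (le_max_left _ _), fun hm y => ?_⟩
  have hna : n₁ ≤ a := le_trans hnb hba
  have hA : adjoinPow J f (max a (k + (c + n))) ≤ J a ⊔ Ideal.span {f ^ (k + (c + n))} :=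
    sup_le_sup (hJ (le_max_left _ _)) (span_pow_le f (le_max_right _ _))
  have hB : J a ⊔ Ideal.span {f ^ (k + (c + n))} ≤ J n₁ ⊔ Ideal.span {f ^ n} :=
    sup_le_sup (hJ hna) (span_pow_le f (by omega))
  let ya := hMapA (A := A) (tr M hA) p y
  let z : Coh.HH X (Kr M (J a) (f ^ (k + (c + n)))) (p + 1) :=
    AtlasCoh.hδ (QCohLib.toAbF_shortExact (shortExact M (J a) (f ^ (k + (c + n))))) p ya
  have hz : f ^ (c + n) • hMapA (A := A) ψ (p + 1) z = 0 := by
    rw [smul_eq_hMap, hMapA_comp, hψ₂]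
    exact inc_hδ M _ _ p ya
  obtain ⟨h, hh⟩ := ha (hJ hba) (hMapA (A := A) ψ (p + 1) z)
  have h3 : hMapA (A := A) (π M (J b)) (p + 1) (f ^ (c + n) • h) = 0 := by
    rw [map_smul, hh, ← map_smul, hz, map_zero]
  have h4 : f ^ c • h ∈ (J n₁ • ⊤ : Submodule A (Coh.HH X M (p + 1))) :=
    hc _ (Nat.le_add_right _ _) h (hb _ h3)
  have h5 : f ^ c • hMapA (A := A) (tr M (hJ hna)) (p + 1) (hMapA (A := A) ψ (p + 1) z) = 0 := by
    rw [← hMap_tr_tr M (hJ hba) (hJ hnb), ← hh, hMap_π_tr, ← map_smul, hMap_π_smul M (p + 1) h4]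
  let χ : Kr M (J a) (f ^ (k + (c + n))) ⟶ Kr M (J n₁) (f ^ n) :=
    (ψ ≫ tr M (hJ hna)) ≫ Formal.smulMod A (T M (J n₁)) (f ^ c) ≫ mulTo M (J n₁) (f ^ n)
  have hχ : χ ≫ inc M (J n₁) (f ^ n) = inc M (J a) (f ^ (k + (c + n))) ≫ tr M (hJ hna) := by
    rw [← hψ₂]
    simp only [χ, Category.assoc, mulTo_inc]
    rw [← smulMod_mul, ← pow_add, ← smulMod_natural, Nat.add_comm n c]
  have h6 : AtlasCoh.hδ (QCohLib.toAbF_shortExact (shortExact M (J n₁) (f ^ n))) p
      (hMapA (A := A) (tr M hB) p ya) = 0 := by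
    rw [hδ_tr M (f ^ (k + (c + n))) (f ^ n) (hJ hna) hB χ hχ]
    show hMapA (A := A) χ (p + 1) z = 0
    rw [← hMapA_comp, ← hMapA_comp, ← hMapA_comp, ← smul_eq_hMap, h5, map_zero]
  obtain ⟨u, hu⟩ := AtlasCoh.hExact₃ (QCohLib.toAbF_shortExact (shortExact M (J n₁) (f ^ n))) p _ h6
  change hMapA (A := A) (q M (J n₁) (f ^ n)) p u = hMapA (A := A) (tr M hB) p ya at hu
  obtain ⟨x, hx⟩ := h₁ (hJ hn₁) u
  have h7 : J n₁ ⊔ Ideal.span {f ^ n} ≤ adjoinPow J f n := sup_le_sup (hJ hn₁) le_rfl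
  refine ⟨x, ?_⟩
  have hl : J n ≤ adjoinPow J f n := le_sup_left
  rw [← hMap_π_tr M hl p x, hx, hMap_tr_tr]
  have h8 := congrArg (hMapA (A := A) (tr M h7) p) hu
  rw [q, hMap_tr_tr] at h8
  refine h8.trans ?_
  rw [hMap_tr_tr, hMap_tr_tr]

/-- The ideals spanned by the `n`-th powers of the members of a list. -/
def powSeq : List A → ℕ → Ideal A
  | [] => fun _ => ⊥
  | g :: s => adjoinPow (powSeq s) g

omit [IsNoetherianRing A] [AlgebraicGeometry.IsNoetherian X] [X.Over (Spec (CommRingCat.of A))] in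
lemma powSeq_antitone : ∀ s : List A, Antitone (powSeq s)
  | [] => fun _ _ _ => le_rfl
  | g :: s => adjoinPow_antitone (powSeq_antitone s) g

omit [IsNoetherianRing A] [AlgebraicGeometry.IsNoetherian X] [X.Over (Spec (CommRingCat.of A))] in
lemma powSeq_le {I : Ideal A} : ∀ (s : List A), (∀ g ∈ s, g ∈ I) → ∀ n, powSeq s n ≤ I ^ n
  | [], _, _ => bot_le
  | g :: s, h, n => sup_le (powSeq_le s (fun x hx => h x (List.mem_cons_of_mem g hx)) n)
      ((Ideal.span_singleton_le_iff_mem _).2 (Ideal.pow_mem_pow (h g List.mem_cons_self) n))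

omit [IsNoetherianRing A] [AlgebraicGeometry.IsNoetherian X] [X.Over (Spec (CommRingCat.of A))] in
lemma pow_mem_powSeq : ∀ (s : List A) (g : A), g ∈ s → ∀ n, g ^ n ∈ powSeq s n
  | g' :: s, g, h, n => by
    rcases List.mem_cons.1 h with rfl | h
    · exact Ideal.mem_sup_right (Ideal.mem_span_singleton_self _)
    · exact Ideal.mem_sup_left (pow_mem_powSeq s g h n)

include hM hfin in
theorem pro_powSeq : ∀ (s : List A) (p : ℕ), PS M (powSeq s) p ∧ PI M (powSeq s) p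
  | [], p => by
    obtain ⟨σ, hσ, hσ'⟩ := exists_inv_π_bot (A := A) M
    refine ⟨fun n => ⟨n, le_rfl, fun h y => ⟨hMapA (A := A) σ p y, ?_⟩⟩, fun n => ⟨n, le_rfl, fun x hx => ?_⟩⟩
    · show hMapA (A := A) (π M ⊥) p _ = _
      rw [hMapA_comp]
      refine congrArg (fun t => hMapA (A := A) t p y) (hσ'.trans ?_)
      rw [← cancel_epi (π M (⊥ : Ideal A)), Category.comp_id]
      exact (π_tr M h).symm
    · have h1 : x = 0 := by
        rw [← hMap_id (A := A) M p x, ← hσ, ← hMapA_comp]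
        exact (congrArg _ hx).trans (map_zero _)
      rw [h1]
      exact zero_mem _
  | g :: s, p =>
    ⟨step_PS hM hfin (powSeq_antitone s) g p (pro_powSeq s p).1 (pro_powSeq s (p + 1)).2 (pro_powSeq s (p + 1)).1,
      step_PI hM (powSeq_antitone s) g p (pro_powSeq s p).1 (pro_powSeq s p).2⟩

variable (I : Ideal A) (p : ℕ)

omit [AlgebraicGeometry.IsNoetherian X] [X.Over (Spec (CommRingCat.of A))] in
lemma exists_powSeq : ∃ s : List A, (∀ n, powSeq s n ≤ I ^ n) ∧ ∀ n, ∃ N, I ^ N ≤ powSeq s n := by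
  classical
  obtain ⟨t, ht⟩ := (_root_.IsNoetherian.noetherian I : I.FG)
  refine ⟨t.toList, powSeq_le _ fun g hg => ht ▸ Submodule.subset_span (Finset.mem_toList.1 hg), fun n => ?_⟩
  refine Ideal.exists_pow_le_of_le_radical_of_fg ?_ (_root_.IsNoetherian.noetherian I)
  conv_lhs => rw [← ht]
  exact Submodule.span_le.2 fun g hg => ⟨n, pow_mem_powSeq _ g (Finset.mem_toList.2 hg) n⟩

include hM hfin in
/-- Classes on `M / I ^ m M` come from `M` after passing to `M / I ^ n M`. -/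
theorem exists_ml_bound (n : ℕ) : ∃ m, n ≤ m ∧ ∀ k (t : Formal.modPow I k M ⟶ Formal.modPow I n M), m ≤ k →
    Formal.modPowπ I k M ≫ t = Formal.modPowπ I n M →
    ∀ y, ∃ x, hMapA (A := A) (Formal.modPowπ I n M) p x = hMapA (A := A) t p y := by
  obtain ⟨s, hs, hs'⟩ := exists_powSeq I
  obtain ⟨m₀, hm₀, h⟩ := (pro_powSeq hM hfin s p).1 n
  obtain ⟨N, hN⟩ := hs' m₀
  refine ⟨max n N, le_max_left _ _, fun k t hk ht y => ?_⟩
  have h1 : I ^ k ≤ powSeq s m₀ := (Ideal.pow_le_pow_right (le_of_max_le_right hk)).trans hN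
  have h2 := powSeq_antitone s hm₀
  obtain ⟨x, hx⟩ := h h2 (hMapA (A := A) (tr M h1) p y)
  refine ⟨x, ?_⟩
  have e : t = tr M ((h1.trans h2).trans (hs n)) := by
    apply (cancel_epi (Formal.modPowπ I k M)).1
    exact ht.trans (π_tr M _).symm
  rw [e]
  have h3 := congrArg (hMapA (A := A) (tr M (hs n)) p) hx
  rw [hMap_π_tr, hMap_tr_tr, hMap_tr_tr] at h3
  exact h3

include hM hfin in
/-- The kernels of `H^p(X, M) → H^p(X, M / I ^ m M)` are adically small. -/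
theorem exists_ker_bound (n : ℕ) : ∃ m, n ≤ m ∧ ∀ k, m ≤ k → ∀ x : Coh.HH X M p,
    hMapA (A := A) (Formal.modPowπ I k M) p x = 0 → x ∈ (I ^ n • ⊤ : Submodule A (Coh.HH X M p)) := by
  obtain ⟨s, hs, hs'⟩ := exists_powSeq I
  obtain ⟨m₀, hm₀, h⟩ := (pro_powSeq hM hfin s p).2 n
  obtain ⟨N, hN⟩ := hs' m₀
  refine ⟨max n N, le_max_left _ _, fun k hk x hx => ?_⟩
  have h1 : I ^ k ≤ powSeq s m₀ := (Ideal.pow_le_pow_right (le_of_max_le_right hk)).trans hN
  refine Submodule.smul_mono_left (hs n) (h x ?_)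
  rw [← hMap_π_tr M h1 p x]
  exact (congrArg _ hx).trans (map_zero _)

end FormalProLib
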