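import Groth.Agent.FormalLib.Main

/-!
# Quotients `M / J M` and the sequences attached to multiplication by a power
-/

universe u

open CategoryTheory CategoryTheory.Limits AlgebraicGeometry Opposite TopologicalSpace

noncomputable section

namespace FormalProLib

open FormalLib (smulMod_add smulMod_mul hMapA hMapA_comp hMapA_apply)

variable {A : Type u} [CommRing A] {X : Scheme.{u}} [X.Over (Spec (CommRingCat.of A))]

lemma smulMod_natural {M N : X.Modules} (φ : M ⟶ N) (a : A) :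
    Formal.smulMod A M a ≫ φ = φ ≫ Formal.smulMod A N a := by
  refine Scheme.Modules.hom_ext _ _ fun U => ConcreteCategory.hom_ext _ _ fun x => ?_
  exact QCohLib.app_smul φ U _ x

lemma smulMod_zero (M : X.Modules) : Formal.smulMod A M 0 = 0 := by
  have := smulMod_add M (0 : A) 0
  rw [add_zero] at this
  exact left_eq_add.1 this

lemma smul_eq_hMap (M : X.Modules) (a : A) (p : ℕ) (x : Coh.HH X M p) :
    a • x = hMapA (A := A) (Formal.smulMod A M a) p x := rfl

lemma hMap_zero {M N : X.Modules} (p : ℕ) (x : Coh.HH X M p) : hMapA (A := A) (0 : M ⟶ N) p x = 0 := by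
  rw [hMapA_apply]
  exact (congrArg (fun e => Sheaf.H.map e p x) (Functor.map_zero _ _ _)).trans
    ((congrArg (fun e => Abelian.Ext.comp x e (add_zero p)) (Abelian.Ext.mk₀_zero _ _)).trans (Abelian.Ext.comp_zero ..))

lemma hMap_id (M : X.Modules) (p : ℕ) (x : Coh.HH X M p) : hMapA (A := A) (𝟙 M) p x = x := by
  exact (congrArg (fun e => Sheaf.H.map e p x) ((SheafOfModules.toSheaf X.ringCatSheaf).map_id M)).trans
    (Sheaf.H.map_id_apply _)

variable (M : X.Modules)

/-- `M / J M`. -/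
def T (J : Ideal A) : X.Modules := cokernel (Formal.smulFamily J M)

/-- The projection. -/
def π (J : Ideal A) : M ⟶ T M J := cokernel.π _

instance (J : Ideal A) : Epi (π M J) := inferInstanceAs (Epi (cokernel.π _))

/-- The transition maps. -/
def tr {J J' : Ideal A} (h : J ≤ J') : T M J ⟶ T M J' :=
  cokernel.desc _ (π M J') (Formal.smulFamily_π_of_le h M)

@[reassoc (attr := simp)]
lemma π_tr {J J' : Ideal A} (h : J ≤ J') : π M J ≫ tr M h = π M J' := cokernel.π_desc _ _ _

lemma tr_comp {J J' J'' : Ideal A} (h : J ≤ J') (h' : J' ≤ J'') : tr M h ≫ tr M h' = tr M (h.trans h') := by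
  rw [← cancel_epi (π M J), π_tr_assoc, π_tr, π_tr]

lemma hMap_π_tr {J J' : Ideal A} (h : J ≤ J') (p : ℕ) (x : Coh.HH X M p) :
    hMapA (A := A) (tr M h) p (hMapA (A := A) (π M J) p x) = hMapA (A := A) (π M J') p x := by
  rw [hMapA_comp, π_tr]

lemma hMap_tr_tr {J J' J'' : Ideal A} (h : J ≤ J') (h' : J' ≤ J'') (p : ℕ) (x : Coh.HH X (T M J) p) :
    hMapA (A := A) (tr M h') p (hMapA (A := A) (tr M h) p x) = hMapA (A := A) (tr M (h.trans h')) p x := by
  rw [hMapA_comp, tr_comp]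

lemma smulMod_π {J : Ideal A} {a : A} (ha : a ∈ J) : Formal.smulMod A M a ≫ π M J = 0 := by
  have h : Sigma.ι (fun _ : ↥J => M) ⟨a, ha⟩ ≫ Formal.smulFamily J M = Formal.smulMod A M a := Sigma.ι_desc _ _
  rw [← h, Category.assoc]
  exact (congrArg (fun t => _ ≫ t) (cokernel.condition (Formal.smulFamily J M))).trans comp_zero

lemma hMap_π_smul {J : Ideal A} (p : ℕ) {x : Coh.HH X M p} (hx : x ∈ (J • ⊤ : Submodule A (Coh.HH X M p))) :
    hMapA (A := A) (π M J) p x = 0 := by
  refine Submodule.smul_induction_on hx (fun a ha y _ => ?_) fun x y hx hy => by rw [map_add, hx, hy, add_zero]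
  rw [smul_eq_hMap, hMapA_comp, smulMod_π M ha]
  exact hMap_zero p y

variable {M}

/-- The ideal of functions killing a morphism. -/
def annHom {Z : X.Modules} (φ : M ⟶ Z) : Ideal A where
  carrier := {a | Formal.smulMod A M a ≫ φ = 0}
  zero_mem' := by
    show Formal.smulMod A M 0 ≫ φ = 0
    rw [smulMod_zero, zero_comp]
  add_mem' {a b} (ha hb) := by
    show Formal.smulMod A M (a + b) ≫ φ = 0
    rw [smulMod_add, Preadditive.add_comp, ha, hb, add_zero]
  smul_mem' c a (ha) := by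
    show Formal.smulMod A M (c • a) ≫ φ = 0
    rw [smul_eq_mul, mul_comm, smulMod_mul, Category.assoc, ha, comp_zero]

lemma smulFamily_comp {Z : X.Modules} (φ : M ⟶ Z) {J : Ideal A} (h : J ≤ annHom φ) :
    Formal.smulFamily J M ≫ φ = 0 := by
  refine Sigma.hom_ext _ _ fun a => ?_
  rw [comp_zero, ← Category.assoc, show Sigma.ι (fun _ : ↥J => M) a ≫ Formal.smulFamily J M =
    Formal.smulMod A M (a : A) from Sigma.ι_desc _ _]
  exact h a.2

variable (M)

/-- `M / ⊥ M = M`. -/
lemma exists_inv_π_bot : ∃ σ : T M (⊥ : Ideal A) ⟶ M, π M (⊥ : Ideal A) ≫ σ = 𝟙 M ∧ σ ≫ π M (⊥ : Ideal A) = 𝟙 _ := by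
  refine ⟨cokernel.desc _ (𝟙 M) (smulFamily_comp _ bot_le), cokernel.π_desc _ _ _, ?_⟩
  rw [← cancel_epi (π M (⊥ : Ideal A)), Category.comp_id, ← Category.assoc,
    show π M (⊥ : Ideal A) ≫ cokernel.desc _ (𝟙 M) _ = 𝟙 M from cokernel.π_desc _ _ _, Category.id_comp]

section Power

variable (K : Ideal A) (g : A)

/-- The quotient map `M / K M ⟶ M / (K + g) M`. -/
def q : T M K ⟶ T M (K ⊔ Ideal.span {g}) := tr M le_sup_left

lemma smul_q : Formal.smulMod A (T M K) g ≫ q M K g = 0 := by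
  rw [← cancel_epi (π M K), comp_zero, ← Category.assoc, ← smulMod_natural, Category.assoc, q, π_tr,
    smulMod_π M (Ideal.mem_sup_right (Ideal.mem_span_singleton_self g))]

instance : Epi (q M K g) :=
  have : Epi (π M K ≫ q M K g) := by rw [q, π_tr]; infer_instance
  epi_of_epi (π M K) _

lemma exact_smul_q : (ShortComplex.mk _ _ (smul_q M K g)).Exact := by
  have key : ∀ {Z : X.Modules} (ψ : T M K ⟶ Z), Formal.smulMod A (T M K) g ≫ ψ = 0 →
      Formal.smulFamily (K ⊔ Ideal.span {g}) M ≫ (π M K ≫ ψ) = 0 := fun ψ h => by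
    refine smulFamily_comp _ (sup_le (fun a ha => ?_) ((Ideal.span_singleton_le_iff_mem _).2 ?_))
    · show Formal.smulMod A M a ≫ π M K ≫ ψ = 0
      rw [← Category.assoc, smulMod_π M ha, zero_comp]
    · show Formal.smulMod A M g ≫ π M K ≫ ψ = 0
      rw [← Category.assoc, smulMod_natural, Category.assoc, h, comp_zero]
  refine ShortComplex.exact_of_g_is_cokernel _ (CokernelCofork.IsColimit.ofπ' _ _ fun {Z} ψ hψ =>
    ⟨cokernel.desc _ (π M K ≫ ψ) (key ψ hψ), ?_⟩)
  rw [← cancel_epi (π M K), ← Category.assoc]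
  show (π M K ≫ q M K g) ≫ _ = _
  rw [q, π_tr]
  exact cokernel.π_desc _ _ _

/-- `g (M / K M)`. -/
def Kr : X.Modules := kernel (q M K g)

/-- The inclusion. -/
def inc : Kr M K g ⟶ T M K := kernel.ι _

/-- Multiplication by `g` onto its image. -/
def mulTo : T M K ⟶ Kr M K g := kernel.lift _ _ (smul_q M K g)

@[reassoc (attr := simp)]
lemma mulTo_inc : mulTo M K g ≫ inc M K g = Formal.smulMod A (T M K) g := kernel.lift_ι _ _ _

instance : Mono (inc M K g) := inferInstanceAs (Mono (kernel.ι _))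

instance : Epi (mulTo M K g) := (ShortComplex.exact_iff_epi_kernel_lift _).1 (exact_smul_q M K g)

lemma inc_q : inc M K g ≫ q M K g = 0 := kernel.condition _

lemma shortExact : (ShortComplex.mk _ _ (inc_q M K g)).ShortExact :=
  have : Mono (ShortComplex.mk _ _ (inc_q M K g)).f := inferInstanceAs (Mono (inc M K g))
  have : Epi (ShortComplex.mk _ _ (inc_q M K g)).g := inferInstanceAs (Epi (q M K g))
  { exact := ShortComplex.exact_of_f_is_kernel _ (kernelIsKernel _) }

lemma isCoh_T (hM : Coh.IsCoh M) : Coh.IsCoh (T M K) :=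
  QCohLib.isCoh_cokernel _ (QCohLib.isQCoh_sigma _ fun _ => hM.1) hM

end Power

/-- The kernels of `f ^ k` stabilise. -/
theorem exists_stable [IsNoetherian X] (hM : Coh.IsCoh M) (K : Ideal A) (f : A) : ∃ k₀ : ℕ, ∀ e : ℕ,
    ∃ ψ : Kr M K (f ^ (k₀ + e)) ⟶ T M K,
      mulTo M K (f ^ (k₀ + e)) ≫ ψ = Formal.smulMod A (T M K) (f ^ k₀) ∧
      ψ ≫ Formal.smulMod A (T M K) (f ^ e) = inc M K (f ^ (k₀ + e)) := by
  have hT := isCoh_T M K hM
  have := hT.1
  let F : ℕ →o Subobject (T M K) :=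
    ⟨fun k => kernelSubobject (Formal.smulMod A (T M K) (f ^ k)), monotone_nat_of_le_succ fun k => by
      rw [pow_succ' f k, smulMod_mul]
      exact kernelSubobject_comp_le _ _⟩
  obtain ⟨k₀, hk₀⟩ := QCohLib.acc_subobjects (T M K) hT F fun n =>
    haveI : Coh.IsQCoh (kernel (Formal.smulMod A (T M K) (f ^ n))) := QCohLib.isQCoh_kernel _
    QCohLib.isQCoh_of_iso (kernelSubobjectIso (Formal.smulMod A (T M K) (f ^ n))).symm
  refine ⟨k₀, fun e => ?_⟩
  have hle : kernelSubobject (Formal.smulMod A (T M K) (f ^ (k₀ + e))) ≤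
      kernelSubobject (Formal.smulMod A (T M K) (f ^ k₀)) := le_of_eq (hk₀ _ (Nat.le_add_right _ _))
  have h1 : kernel.ι (Formal.smulMod A (T M K) (f ^ (k₀ + e))) ≫ Formal.smulMod A (T M K) (f ^ k₀) = 0 := by
    rw [← kernelSubobject_arrow' (Formal.smulMod A (T M K) (f ^ (k₀ + e))), Category.assoc,
      ← Subobject.ofLE_arrow hle, Category.assoc, kernelSubobject_arrow_comp, comp_zero, comp_zero]
  have h2 : kernel.ι (mulTo M K (f ^ (k₀ + e))) ≫ Formal.smulMod A (T M K) (f ^ k₀) = 0 := by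
    have h3 : kernel.ι (mulTo M K (f ^ (k₀ + e))) ≫ Formal.smulMod A (T M K) (f ^ (k₀ + e)) = 0 := by
      rw [← mulTo_inc, kernel.condition_assoc, zero_comp]
    rw [← kernel.lift_ι _ _ h3, Category.assoc, h1, comp_zero]
  refine ⟨Abelian.epiDesc (mulTo M K (f ^ (k₀ + e))) _ h2, Abelian.comp_epiDesc _ _ h2, ?_⟩
  rw [← cancel_epi (mulTo M K (f ^ (k₀ + e))), ← Category.assoc, Abelian.comp_epiDesc, mulTo_inc,
    ← smulMod_mul, ← pow_add, Nat.add_comm]

end FormalProLib
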